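import Cfsg.Agent.Lib.Fus.Fi23Der.Stab
import Cfsg.Agent.S0144

/-! A maximal subgroup of Fi23 of derived length ten. -/

set_option autoImplicit false
set_option maxRecDepth 100000
set_option maxHeartbeats 4000000

open Cfsg.Agent.Spor.Cos Cfsg.Agent.Spor.Cos.Triple
open Cfsg.Agent.Spor.Cos.Fi23 (g actA piA homA det)

open scoped commutatorElement

namespace Cfsg.Agent.Fus.Fi23Der

theorem mem_cases (p : Fin actA.N) :
    p ∈ setF ∨ ∃ k < 2, ∃ h ∈ setStab, ∃ r : Fin actA.N, (r : ℕ) = (outs.getD k (0, [])).1 ∧ piA h r = p := by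
  have hv : val g (levW.getD 0 []) ≤ setStab := (val_le (i := 0) (by decide)).trans kStab_zero.le
  have h := cov_ok p p.is_lt
  simp only [covered, Bool.or_eq_true] at h
  rcases h with h | h | h
  · exact Or.inl h
  · obtain ⟨y, hy, e⟩ := c1_ok.mem_orbit homA ⟨_, c1_ok.root_lt⟩ rfl h
    exact Or.inr ⟨0, by decide, y, hv hy, ⟨_, c1_ok.root_lt⟩, rfl, e⟩
  · obtain ⟨y, hy, e⟩ := c2_ok.mem_orbit homA ⟨_, c2_ok.root_lt⟩ rfl h
    exact Or.inr ⟨1, by decide, y, hv hy, ⟨_, c2_ok.root_lt⟩, rfl, e⟩

theorem base_u : (((fps.getD 0 pnt0).u.all fun s => Nat.blt s actA.n) &&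
    Nat.beq (actA.go (fps.getD 0 pnt0).u q0) (bs.getD 0 0) && keeps actA (tw (fps.getD 0 pnt0).u)) = true := by
  decide +kernel

theorem tr_mem {p : Fin actA.N} (hp : p ∈ setF) : tr p ∈ setStab := by
  have hb := base_u
  simp only [Bool.and_eq_true] at hb
  obtain ⟨y, hy, e⟩ := o0_ok.mem_orbit homA ⟨_, o0_ok.root_lt⟩ rfl (p := p) hp
  have hy' : y ∈ setStab := kStab_zero.le (val_le (i := 0) (by decide) hy)
  rw [← e, ← conj_tr, tr_word hb.1.1 hb.1.2]
  exact mul_mem (mul_mem hy' (keeps_mem hb.2)) (inv_mem hy')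

/-- The generators along a path. -/
def pathGens (k : ℕ) : List (List ℕ) :=
  levW.getD 0 [] ++ [tw (outs.getD k (0, [])).2, tw (fps.getD 0 pnt0).u]

/-- The check of the paths to the generators. -/
noncomputable def chkPath (k s : ℕ) : Bool :=
  (((outs.getD k (0, [])).2.all fun t => Nat.blt t actA.n) &&
    Nat.beq (actA.go (outs.getD k (0, [])).2 q0) (outs.getD k (0, [])).1) &&
  (((paths.getD k []).getD s []).all fun i => Nat.blt i (pathGens k).length) &&
  ((((paths.getD k []).getD s []).map fun i => (pathGens k).getD i []).flatten.all fun t => Nat.blt t actA.n) &&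
  Nat.beq (actA.go (((paths.getD k []).getD s []).map fun i => (pathGens k).getD i []).flatten
    (outs.getD k (0, [])).1) (qs.getD s 0) &&
  ((qU.getD s []).all fun t => Nat.blt t actA.n) && Nat.beq (actA.go (qU.getD s []) q0) (qs.getD s 0) &&
  sameW actA [0, 1, 2, 3, 4, 5, 6, 8, 9] (tw (qU.getD s [])) [s]

theorem paths_ok : ((List.range 2).all fun k => (List.range 10).all (chkPath k)) = true := by decide +kernel

theorem setStab_maximal : IsCoatom setStab := by
  have := Cfsg.Agent.Spor.Cos.Fi23.finite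
  refine ⟨fun htop => ?_, fun K hK => ?_⟩
  · have h : (o0.mem moved.2 && Nat.blt moved.2 actA.N && !(o0.mem (actA.go [moved.1] moved.2)) &&
        ([moved.1].all fun s => Nat.blt s actA.n)) = true := by decide +kernel
    simp only [Bool.and_eq_true, Bool.not_eq_true'] at h
    obtain ⟨⟨⟨h1, h2⟩, h3⟩, h4⟩ := h
    have h5 : o0.mem (piA (ev g [moved.1]) ⟨moved.2, Nat.le_of_ble_eq_true h2⟩) = true :=
      (apply_mem_iff (htop ▸ Subgroup.mem_top (ev g [moved.1]) : ev g [moved.1] ∈ setStab)
        ⟨moved.2, Nat.le_of_ble_eq_true h2⟩).2 h1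
    rw [go_apply h4, h3] at h5
    exact Bool.noConfusion h5
  · obtain ⟨y, hyK, hy⟩ := SetLike.exists_of_lt hK
    obtain ⟨p, hp, hpy⟩ : ∃ p ∈ setF, piA y p ∉ setF := by
      by_contra h
      push Not at h
      exact hy (mem_setStab_of h)
    have htp : tr (piA y p) ∈ K := by
      rw [← conj_tr]
      exact mul_mem (mul_mem hyK (hK.le (tr_mem hp))) (inv_mem hyK)
    rcases mem_cases (piA y p) with h | ⟨k, hk, h, hh, r, hr, e⟩
    · exact absurd h hpy
    have htr : tr r ∈ K := by
      have e2 : tr r = h⁻¹ * tr (piA y p) * h := by rw [← e, ← conj_tr]; group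
      rw [e2]
      exact mul_mem (mul_mem (inv_mem (hK.le hh)) htp) (hK.le hh)
    refine top_le_iff.1 (Cfsg.Agent.Spor.Cos.Fi23.g_gen ▸ (Subgroup.closure_le _).2 ?_)
    rintro _ ⟨s, hs, rfl⟩
    have hc := List.all_eq_true.1 (List.all_eq_true.1 paths_ok k (List.mem_range.2 hk)) s (List.mem_range.2 hs)
    simp only [chkPath, Bool.and_eq_true] at hc
    obtain ⟨⟨⟨⟨⟨⟨⟨hu, hgo⟩, hidx⟩, hwl⟩, hwgo⟩, hqu⟩, hqgo⟩, hsame⟩ := hc
    set w := (((paths.getD k []).getD s []).map fun i => (pathGens k).getD i []).flatten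
    have hgens : ∀ v ∈ pathGens k, ev g v ∈ K := by
      intro v hv
      rcases List.mem_append.1 hv with hv | hv
      · exact hK.le (kStab_zero.le (val_le (i := 0) (by decide) (mem_val hv)))
      · have hb := base_u
        simp only [Bool.and_eq_true] at hb
        simp only [List.mem_cons, List.not_mem_nil, or_false] at hv
        rcases hv with rfl | rfl
        · rw [← tr_word (p := r) hu (by rw [hr]; exact hgo)]
          exact htr
        · exact hK.le (keeps_mem hb.2)
    have hw : ev g w ∈ K := by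
      rw [ev_flatten]
      refine Subgroup.list_prod_mem _ fun x hx => ?_
      obtain ⟨v, hv, rfl⟩ := List.mem_map.1 hx
      obtain ⟨i, hi, rfl⟩ := List.mem_map.1 hv
      refine hgens _ ?_
      rw [List.getD_eq_getElem _ _ (Nat.le_of_ble_eq_true (List.all_eq_true.1 hidx i hi))]
      exact List.getElem_mem _
    have e2 : (piA (ev g w) r : ℕ) = qs.getD s 0 := by
      rw [go_apply hwl, hr]
      exact Nat.eq_of_beq_eq_true hwgo
    have e3 : tr (piA (ev g w) r) = g s := by
      rw [tr_word hqu (by rw [e2]; exact hqgo),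
        eq_of_sameW (g := g) homA det hsame]
      simp [ev]
    show g s ∈ K
    rw [← e3, ← conj_tr]
    exact mul_mem (mul_mem hw htr) (inv_mem hw)

/-- The terms of the derived series in the whole group. -/
def dS (n : ℕ) : Subgroup X := (derivedSeries setStab n).map setStab.subtype

theorem dS_comm {n : ℕ} {x y : X} (hx : x ∈ dS n) (hy : y ∈ dS n) : x * y * x⁻¹ * y⁻¹ ∈ dS (n + 1) := by
  obtain ⟨a, ha, rfl⟩ := hx
  obtain ⟨b, hb, rfl⟩ := hy
  refine ⟨⁅a, b⁆, ?_, by simp [commutatorElement_def]⟩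
  rw [derivedSeries_succ]
  exact Subgroup.commutator_mem_commutator ha hb

theorem dS_conj {n : ℕ} {x h : X} (hx : x ∈ dS n) (hh : h ∈ setStab) : h * x * h⁻¹ ∈ dS n := by
  obtain ⟨a, ha, rfl⟩ := hx
  exact ⟨⟨h, hh⟩ * a * ⟨h, hh⟩⁻¹, (derivedSeries_normal (G := setStab) n).conj_mem a ha ⟨h, hh⟩, by simp⟩

theorem ders_mem : ∀ i, i < 10 → ∀ e ∈ ders.getD i [],
    (e.w.all fun s => Nat.blt s actA.n) = true ∧ ev g e.w ∈ dS i := by
  intro i
  induction i with
  | zero =>
    intro _ e he
    have h := List.all_eq_true.1 ders_top_ok e he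
    refine ⟨?_, ⟨⟨ev g e.w, keeps_mem h⟩, by simp, rfl⟩⟩
    simp only [keeps, Bool.and_eq_true] at h
    exact h.1
  | succ i ih =>
    intro hi e he
    have h := List.all_eq_true.1 (List.all_eq_true.1 ders_ok i (List.mem_range.2 (by omega))) e he
    simp only [chkDer, Bool.and_eq_true] at h
    obtain ⟨⟨⟨ha, hb⟩, hh⟩, hs⟩ := h
    have hs' := hs
    simp only [sameW, Bool.and_eq_true] at hs'
    refine ⟨hs'.1.2, ?_⟩
    rw [← eq_of_sameW (g := g) homA det hs]
    have hel : ∀ a, Nat.blt a (ders.getD i []).length = true →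
        (((ders.getD i []).getD a comm0).w.all fun s => Nat.blt s actA.n) = true ∧
          ev g ((ders.getD i []).getD a comm0).w ∈ dS i := fun a ha => by
      rw [List.getD_eq_getElem _ _ (Nat.le_of_ble_eq_true ha)]
      exact ih (by omega) _ (List.getElem_mem _)
    obtain ⟨hax, hx⟩ := hel e.a ha
    obtain ⟨hby, hy⟩ := hel e.b hb
    have key : ∀ v : List ℕ, (v.all fun s => Nat.blt s actA.n) = true → ev g v ∈ dS i →
        ev g (((ders.getD i []).getD e.a comm0).w ++ (v ++ (((ders.getD i []).getD e.a comm0).w.reverse ++ v.reverse)))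
          ∈ dS (i + 1) := fun v hv hm => by
      rw [ev_append, ev_append, ev_append, ev_rev hax, ev_rev hv, ← mul_assoc, ← mul_assoc]
      exact dS_comm hx hm
    rcases hhd : e.h with _ | n
    · simp only [commW, hhd]
      exact key _ hby hy
    · simp only [commW, hhd]
      have hn : n < (ders.getD 0 []).length := by
        have := Nat.le_of_ble_eq_true hh
        omega
      have ht := List.all_eq_true.1 ders_top_ok ((ders.getD 0 []).getD n comm0)
        (by rw [List.getD_eq_getElem _ _ hn]; exact List.getElem_mem _)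
      have htl := ht
      simp only [keeps, Bool.and_eq_true] at htl
      refine key _ ?_ ?_
      · simp only [List.all_append, List.all_reverse, htl.1, hby, Bool.and_self]
      · rw [ev_append, ev_append, ev_rev htl.1, ← mul_assoc]
        exact dS_conj hy (keeps_mem ht)

theorem derived_ne : derivedSeries setStab 10 ≠ derivedSeries setStab 9 := by
  have := Cfsg.Agent.Spor.Cos.Fi23.finite
  intro heq
  have hstable : ∀ k, derivedSeries setStab (9 + k) = derivedSeries setStab 9 := by
    intro k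
    induction k with
    | zero => rfl
    | succ k ih =>
      rw [← add_assoc, derivedSeries_succ, ih]
      exact (derivedSeries_succ setStab 9).symm.trans heq
  obtain ⟨n, hn⟩ := (Group.isSolvable_def _).1
    (Cfsg.Agent.S0144.result (G := setStab) 2 3 11 13 Nat.prime_two Nat.prime_three card_setStab)
  have h9 : derivedSeries setStab 9 = ⊥ := by
    rw [← hstable n]
    exact eq_bot_iff.2 (hn ▸ derivedSeries_antitone setStab (Nat.le_add_left n 9))
  have he : (ders.getD 9 []).getD 0 comm0 ∈ ders.getD 9 [] := by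
    have hlen : 0 < (ders.getD 9 []).length := by decide +kernel
    rw [List.getD_eq_getElem (l := ders.getD 9 []) (hn := hlen)]
    exact List.getElem_mem _
  obtain ⟨hl, hm⟩ := ders_mem 9 (by decide) _ he
  rw [dS, h9, Subgroup.map_bot, Subgroup.mem_bot] at hm
  have h := agree_of_eq homA (pts := [0, 1, 2, 3, 4, 5, 6, 8, 9]) (by decide +kernel) (w := []) (ev_letters hl)
    (by simp) (hm.trans rfl)
  have h2 : agree actA [0, 1, 2, 3, 4, 5, 6, 8, 9] ((ders.getD 9 []).getD 0 comm0).w [] = false := by decide +kernel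
  rw [h2] at h
  exact Bool.noConfusion h

theorem not_comm : ¬ ∀ a b : X, a * b = b * a := by
  intro h
  have e : ev g [0, 1] = ev g [1, 0] := by simpa [ev] using h (g 0) (g 1)
  have h1 := agree_of_eq homA (pts := [0, 1, 2, 3, 4, 5, 6, 8, 9]) (by decide +kernel) (v := [0, 1]) (w := [1, 0])
    (ev_letters (by decide +kernel)) (ev_letters (by decide +kernel)) e
  have h2 : agree actA [0, 1, 2, 3, 4, 5, 6, 8, 9] [0, 1] [1, 0] = false := by decide +kernel
  rw [h2] at h1
  exact Bool.noConfusion h1

/-- An almost simple group with a maximal subgroup whose ninth derived subgroup is not perfect. -/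
theorem exists_nine :
    ∃ (G : Type) (_ : Group G) (_ : Finite G) (S H : Subgroup G), S.Normal ∧ IsSimpleGroup S ∧ ¬ IsMulCommutative S ∧
      Subgroup.centralizer (S : Set G) = ⊥ ∧ IsCoatom H ∧ derivedSeries H 10 ≠ derivedSeries H 9 := by
  have hs : IsSimpleGroup X := Cfsg.Agent.Spor.Cos.Fi23.isSimple
  refine ⟨X, inferInstance, Cfsg.Agent.Spor.Cos.Fi23.finite, ⊤, setStab, inferInstance, ?_, ?_, ?_,
    setStab_maximal, derived_ne⟩
  · exact Subgroup.topEquiv.isSimpleGroup
  · intro h
    exact not_comm fun a b =>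
      congrArg Subtype.val (h.is_comm.comm (⟨a, Subgroup.mem_top a⟩ : (⊤ : Subgroup X)) ⟨b, Subgroup.mem_top b⟩)
  · rw [Subgroup.coe_top, Subgroup.centralizer_univ]
    rcases IsSimpleGroup.eq_bot_or_eq_top_of_normal (Subgroup.center X) inferInstance with e | e
    · exact e
    · exact absurd (fun a b => ((Subgroup.mem_center_iff.1 (e ▸ Subgroup.mem_top a : a ∈ Subgroup.center X)) b).symm)
        not_comm

end Cfsg.Agent.Fus.Fi23Der
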